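import Mathlib
import Cfsg.Agent.Lib.Helper79.CS3.EndDefs

/-!
# CS3 (S4284), part END: small shared lemmas of helper88's packages
-/

set_option autoImplicit false

namespace Cfsg.Agent.Lib.Helper88.CS3

open Cfsg.Agent.Lib.Helper79.CS3 Cfsg.Agent.Lib.Helper81.CS3
open scoped Pointwise

universe u

/-- the power rule in class two -/
theorem end_pow_comm {G : Type u} [Group G] {a b z : G} (hz : a * b = z * b * a)
    (hza : Commute a z) (k : ℕ) : a ^ k * b = z ^ k * b * a ^ k := by
  induction k with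
  | zero => simp
  | succ k ih =>
    calc a ^ (k + 1) * b = a ^ k * (a * b) := by rw [pow_succ, mul_assoc]
      _ = a ^ k * (z * b * a) := by rw [hz]
      _ = (a ^ k * z) * b * a := by simp only [mul_assoc]
      _ = (z * a ^ k) * b * a := by rw [(hza.pow_left k).eq]
      _ = z * (a ^ k * b) * a := by simp only [mul_assoc]
      _ = z * (z ^ k * b * a ^ k) * a := by rw [ih]
      _ = z ^ (k + 1) * b * a ^ (k + 1) := by
          rw [pow_succ' z, pow_succ a]; simp only [mul_assoc]

/-- `Q` normal with `Q ⊓ P = ⊥`, `Q ⊔ P = ⊤`: `P` is a complement of `Q` -/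
theorem end_isComplement {G : Type u} [Group G] {Q P : Subgroup G} (hQn : Q.Normal)
    (hinf : Q ⊓ P = ⊥) (hsup : Q ⊔ P = ⊤) : Subgroup.IsComplement' Q P := by
  apply Subgroup.isComplement'_of_disjoint_and_mul_eq_univ (disjoint_iff.mpr hinf)
  rw [← Subgroup.normal_mul, hsup]
  rfl

/-- the order of the complement is the index -/
theorem end_card_P {G : Type u} [Group G] {Q P : Subgroup G} (hQn : Q.Normal)
    (hinf : Q ⊓ P = ⊥) (hsup : Q ⊔ P = ⊤) : Nat.card P = Q.index :=
  ((end_isComplement hQn hinf hsup).symm.index_eq_card).symm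

/-- every element is a product `q * l` -/
theorem end_exists_mul {G : Type u} [Group G] {Q P : Subgroup G} (hQn : Q.Normal)
    (hsup : Q ⊔ P = ⊤) (x : G) : ∃ q ∈ Q, ∃ l ∈ P, x = q * l := by
  have hx : x ∈ ((Q ⊔ P : Subgroup G) : Set G) := by rw [hsup]; trivial
  rw [Subgroup.normal_mul] at hx
  obtain ⟨q, hq, l, hl, rfl⟩ := Set.mem_mul.mp hx
  exact ⟨q, hq, l, hl, rfl⟩

end Cfsg.Agent.Lib.Helper88.CS3
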