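import Mathlib
import Cfsg.Agent.Lib.Helper79.CS3.EndDefs
import Cfsg.Agent.Lib.Helper88.CS3.EndAux

/-!
# CS3 (S4284), part END, package [I3]: `|Q| = n`, `m ∣ n - 1`, and the elements of
`P ∖ C_P(Q)` fix no non-trivial element of `Q` (CASE I)
-/

set_option autoImplicit false

namespace Cfsg.Agent.Lib.Helper88.CS3

open Cfsg.Agent.Lib.Helper79.CS3 Cfsg.Agent.Lib.Helper81.CS3

universe u

/-- **[I3]** from [I1], [DF], [ORB], [E4], [E5A], [E0] -/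
theorem pkgI3_of (hI1 : PkgI1.{u}) (hDF : PkgDF.{u}) (hOrb : PkgOrb.{u}) (hE4 : PkgE4.{u})
    (hE5a : PkgE5a.{u}) (hE0 : PkgE0.{u}) : PkgI3.{u} := by
  intro G _ _ m n Q P p hS hI
  have hQn : Q.Normal := hS.s0.qn
  obtain ⟨hrel, -, h3, -⟩ := hI1 m n Q P p hS hI
  obtain ⟨hcop, -⟩ := hE0 m n hS.s0.hyp Q hQn hS.s0.qm hS.s0.qi
  have hcardP : Nat.card P = Q.index := end_card_P hQn hS.s0.inf hS.s0.sup
  have hQZ : Q ⊓ Subgroup.center G = ⊥ :=
    hDF Q P hS.s0.hyp.1 hQn hS.s0.qc (by rw [hcardP]; exact hcop) hS.s0.inf hS.s0.sup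
  -- non-trivial elements of `Q` are not central
  have hnc : ∀ y ∈ Q, y ≠ 1 → y ∉ Subgroup.center G := by
    intro y hy hy1 hyc
    have h1 : y ∈ Q ⊓ Subgroup.center G := ⟨hy, hyc⟩
    rw [hQZ] at h1
    exact hy1 (Subgroup.mem_bot.mp h1)
  have hstab : ∀ y ∈ Q, y ≠ 1 → ∀ g ∈ P,
      (g * y = y * g ↔ g ∈ Subgroup.centralizer (Q : Set G)) := by
    intro y hy hy1 g hg
    constructor
    · intro hgy
      exact h3 y hy (hnc y hy hy1) g hg hgy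
    · intro hgC
      exact (Subgroup.mem_centralizer_iff.mp hgC y hy).symm
  have hfix : ∀ g ∈ P, g ∉ Subgroup.centralizer (Q : Set G) → ∀ y ∈ Q, g * y = y * g →
      y = 1 := by
    intro g hg hgC y hy hgy
    by_contra hy1
    exact hgC ((hstab y hy hy1 g hg).mp hgy)
  have hdvd := hOrb Q P (Subgroup.centralizer (Q : Set G)) hQn hstab
  rw [hrel] at hdvd
  -- `|Q| = n`
  obtain ⟨hE4a, -⟩ := hE4 m n Q P hS.s0
  obtain ⟨w, hwP, hwC⟩ : ∃ w ∈ P, w ∉ Subgroup.centralizer (Q : Set G) := by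
    by_contra hcon
    push Not at hcon
    exact hE4a hcon
  obtain ⟨-, hrelQ, -⟩ := (hE5a m n Q P hS.s0 w hwP).2 hwC
  have hinf : Subgroup.centralizer ({w} : Set G) ⊓ Q = ⊥ := by
    rw [eq_bot_iff]
    rintro y ⟨hyw, hyQ⟩
    rw [Subgroup.mem_bot]
    exact hfix w hwP hwC y hyQ (Subgroup.mem_centralizer_singleton_iff.mp hyw).symm
  have hcardQ : Nat.card Q = n := by
    rw [← hrelQ, ← Subgroup.inf_relIndex_right, hinf, Subgroup.relIndex_bot_left]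
  exact ⟨hcardQ, hcardQ ▸ hdvd, hfix⟩

end Cfsg.Agent.Lib.Helper88.CS3
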