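import Mathlib
import Cfsg.Agent.Lib.Helper79.CS3.EndDefs
import Cfsg.Agent.Lib.Helper88.CS3.EndAux

/-!
# CS3 (S4284), part END, package [I4A]: `P / C_P(Q)` has exponent `p` (CASE I)
-/

set_option autoImplicit false

namespace Cfsg.Agent.Lib.Helper88.CS3

open Cfsg.Agent.Lib.Helper79.CS3 Cfsg.Agent.Lib.Helper81.CS3

universe u

/-- **[I4A]** from [I1], [E6], [PCEN] -/
theorem pkgI4a_of (hI1 : PkgI1.{u}) (hE6 : PkgE6.{u}) (hPCen : PkgPCen.{u}) : PkgI4a.{u} := by
  intro G _ _ m n Q P p hS hI w hw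
  have hQn : Q.Normal := hS.s0.qn
  have hCn : (Subgroup.centralizer (Q : Set G)).Normal := inferInstance
  obtain ⟨-, -, -, h4⟩ := hI1 m n Q P p hS hI
  obtain ⟨a0, ha0P, ha0C, ha0Z⟩ := hI
  -- `A1` is not central in `P`
  have hnc : ∃ x ∈ P ⊓ Subgroup.centralizer (Q : Set G), ∃ g ∈ P, x * g ≠ g * x := by
    by_contra hcon
    push Not at hcon
    exact ha0Z (hE6 m n Q P p hS a0 ha0P (fun y hy => hcon a0 ⟨ha0P, ha0C⟩ y hy))
  obtain ⟨a, haN, ⟨g0, hg0P, hg0⟩, hz, hap⟩ := hPCen p P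
    (P ⊓ Subgroup.centralizer (Q : Set G)) hS.pp hS.pg inf_le_left
    (fun g hg x hx => ⟨P.mul_mem (P.mul_mem hg hx.1) (P.inv_mem hg), hCn.conj_mem x hx.2 g⟩)
    hnc
  have haP : a ∈ P := haN.1
  have haC : a ∈ Subgroup.centralizer (Q : Set G) := haN.2
  have haZ : a ∉ Subgroup.center G := by
    intro h
    exact hg0 ((Subgroup.mem_center_iff.mp h g0).symm)
  obtain ⟨z, hzdef⟩ : ∃ z : G, z = a * w * a⁻¹ * w⁻¹ := ⟨_, rfl⟩
  have hza : z * a = a * z := by rw [hzdef]; exact hz w hw a haP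
  have hzw : z * w = w * z := by rw [hzdef]; exact hz w hw w hw
  have e1 : a * w = z * w * a := by rw [hzdef]; group
  have h5 := end_pow_comm e1 (show Commute a z from hza.symm) p
  have h6 : a ^ p * w = w * a ^ p := hap w hw
  have hzp : z ^ p = 1 := by
    have h9 : z ^ p * (w * a ^ p) = 1 * (w * a ^ p) := by rw [one_mul, ← mul_assoc, ← h5, h6]
    exact mul_right_cancel h9
  have e2 : w * a = z⁻¹ * a * w := by
    calc w * a = z⁻¹ * (z * w * a) := by group
      _ = z⁻¹ * (a * w) := by rw [← e1]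
      _ = z⁻¹ * a * w := by group
  have h7 := end_pow_comm e2
    (show Commute w z⁻¹ from (Commute.inv_right (show Commute w z from hzw.symm))) p
  have h8 : w ^ p * a = a * w ^ p := by rw [h7, inv_pow, hzp, inv_one, one_mul]
  exact h4 a haP haC haZ (w ^ p) (P.pow_mem hw p) h8

end Cfsg.Agent.Lib.Helper88.CS3
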