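import Mathlib
import Cfsg.Agent.Lib.Helper79.CS3.EndDefs

/-!
# CS3 (S4284), part END, package [I4B]: `m = p` (CASE I)
-/

set_option autoImplicit false

namespace Cfsg.Agent.Lib.Helper88.CS3

open Cfsg.Agent.Lib.Helper79.CS3 Cfsg.Agent.Lib.Helper81.CS3

universe u

/-- **[I4B]** from [I1], [I3], [I4A], [FPF] -/
theorem pkgI4b_of (hI1 : PkgI1.{u}) (hI3 : PkgI3.{u}) (hI4a : PkgI4a.{u}) (hFPF : PkgFPF.{u}) :
    PkgI4b.{u} := by
  intro G _ _ m n Q P p hS hI
  have hQn : Q.Normal := hS.s0.qn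
  have hCn : (Subgroup.centralizer (Q : Set G)).Normal := inferInstance
  have hpF : Fact p.Prime := ⟨hS.pp⟩
  obtain ⟨hrel, -, -, -⟩ := hI1 m n Q P p hS hI
  obtain ⟨hQcard, -, hfix⟩ := hI3 m n Q P p hS hI
  have hexp := hI4a m n Q P p hS hI
  obtain ⟨j, hj⟩ := hS.pm
  have hm1 : 1 < m := hS.s0.hyp.2.1
  have hn1 : 1 < n := hS.s0.hyp.2.2.1
  have hj1 : j ≠ 0 := by
    rintro rfl
    rw [pow_zero] at hj
    omega
  by_contra hne
  have hj2 : 2 ≤ j := by
    by_contra hlt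
    have h1 : j = 1 := by omega
    rw [h1, pow_one] at hj
    exact hne hj
  -- the quotient `P / C_P(Q)`
  obtain ⟨A, hA⟩ : ∃ A : Subgroup ↥P, A = (Subgroup.centralizer (Q : Set G)).subgroupOf P :=
    ⟨_, rfl⟩
  have hAn : A.Normal := by rw [hA]; infer_instance
  have hmemA : ∀ x : ↥P, x ∈ A ↔ (x : G) ∈ Subgroup.centralizer (Q : Set G) := by
    intro x; rw [hA, Subgroup.mem_subgroupOf]
  have hcardE : Nat.card (↥P ⧸ A) = p ^ j := by
    rw [← Subgroup.index_eq_card, hA]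
    exact hrel.trans hj
  have hEp : IsPGroup p (↥P ⧸ A) := IsPGroup.of_card hcardE
  have hp1 := hS.pp.one_lt
  have hpj : p < p ^ j := by
    calc p = p ^ 1 := (pow_one p).symm
      _ < p ^ j := Nat.pow_lt_pow_right hS.pp.one_lt (by omega)
  have hEnt : Nontrivial (↥P ⧸ A) := by
    rw [← Finite.one_lt_card_iff_nontrivial, hcardE]
    omega
  have hexpE : ∀ x : ↥P ⧸ A, x ^ p = 1 := by
    intro x
    obtain ⟨x, rfl⟩ := QuotientGroup.mk_surjective x
    rw [← QuotientGroup.mk_pow, QuotientGroup.eq_one_iff, hmemA]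
    simpa using hexp x x.2
  -- a central element of order `p` and an element outside the group it generates
  have hcnt := hEp.center_nontrivial
  obtain ⟨⟨gb, hgbc⟩, hgb1⟩ := exists_ne (1 : Subgroup.center (↥P ⧸ A))
  have hgb1' : gb ≠ 1 := fun h => hgb1 (Subtype.ext h)
  have hord : orderOf gb = p := orderOf_eq_prime (hexpE gb) hgb1'
  obtain ⟨hb, hhb⟩ : ∃ hb : ↥P ⧸ A, hb ∉ Subgroup.zpowers gb := by
    by_contra hall
    push Not at hall
    have htop : Subgroup.zpowers gb = ⊤ := (Subgroup.eq_top_iff' _).mpr hall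
    have h1 : Nat.card (Subgroup.zpowers gb) = Nat.card (↥P ⧸ A) := by
      rw [htop, Subgroup.card_top]
    rw [Nat.card_zpowers, hord, hcardE] at h1
    omega
  obtain ⟨g, rfl⟩ := QuotientGroup.mk_surjective gb
  obtain ⟨h, rfl⟩ := QuotientGroup.mk_surjective hb
  -- independence modulo `C_P(Q)`
  have hind : ∀ i k : ℕ, (g : G) ^ i * (h : G) ^ k ∈ Subgroup.centralizer (Q : Set G) →
      p ∣ i ∧ p ∣ k := by
    intro i k hik
    have h1 : (QuotientGroup.mk g : ↥P ⧸ A) ^ i * (QuotientGroup.mk h : ↥P ⧸ A) ^ k = 1 := by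
      rw [← QuotientGroup.mk_pow, ← QuotientGroup.mk_pow, ← QuotientGroup.mk_mul,
        QuotientGroup.eq_one_iff, hmemA]
      simpa using hik
    have hk : p ∣ k := by
      by_contra hpk
      have hcop : k.Coprime (orderOf (QuotientGroup.mk h : ↥P ⧸ A)) := by
        have hd : orderOf (QuotientGroup.mk h : ↥P ⧸ A) ∣ p :=
          orderOf_dvd_of_pow_eq_one (hexpE _)
        rcases (Nat.dvd_prime hS.pp).mp hd with h0 | h0
        · rw [h0]; exact Nat.coprime_one_right k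
        · rw [h0]; exact (Nat.Coprime.symm ((Nat.Prime.coprime_iff_not_dvd hS.pp).mpr hpk))
      obtain ⟨t, ht⟩ := exists_pow_eq_self_of_coprime hcop
      apply hhb
      have h2 : (QuotientGroup.mk h : ↥P ⧸ A) ^ k = ((QuotientGroup.mk g : ↥P ⧸ A) ^ i)⁻¹ :=
        eq_inv_of_mul_eq_one_right h1
      rw [← ht, h2]
      exact Subgroup.pow_mem _ (Subgroup.inv_mem _
        (Subgroup.pow_mem _ (Subgroup.mem_zpowers _) i)) t
    refine ⟨?_, hk⟩
    obtain ⟨c, rfl⟩ := hk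
    rw [pow_mul, hexpE, one_pow, mul_one] at h1
    rw [← hord]
    exact orderOf_dvd_of_pow_eq_one h1
  have hcomm : (g : G) * (h : G) * (g : G)⁻¹ * (h : G)⁻¹ ∈
      Subgroup.centralizer (Q : Set G) := by
    have h1 : (QuotientGroup.mk (g * h * g⁻¹ * h⁻¹) : ↥P ⧸ A) = 1 := by
      rw [QuotientGroup.mk_mul, QuotientGroup.mk_mul, QuotientGroup.mk_mul,
        QuotientGroup.mk_inv, QuotientGroup.mk_inv]
      have h2 := Subgroup.mem_center_iff.mp hgbc (QuotientGroup.mk h)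
      rw [← h2]
      group
    rw [QuotientGroup.eq_one_iff, hmemA] at h1
    simpa using h1
  have hcent : ∀ c ∈ Subgroup.centralizer (Q : Set G), ∀ y ∈ Q, c * y = y * c :=
    fun c hc y hy => (Subgroup.mem_centralizer_iff.mp hc y hy).symm
  have hpQ : ¬ p ∣ Nat.card Q := by
    intro hd
    have h1 : p ∣ m := by rw [hj]; exact dvd_pow_self p hj1
    have h2 := Nat.dvd_gcd hd h1
    rw [hS.s0.qm.gcd_eq_one] at h2
    exact hS.pp.one_lt.ne' (Nat.dvd_one.mp h2)
  have hQne : (⊥ : Subgroup G) ≠ Q := by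
    intro hb
    have h1 : Nat.card Q = 1 := by rw [← hb]; exact Subgroup.card_bot
    omega
  refine hFPF Q ⊥ p (g : G) (h : G) hS.pp hS.s0.qc hpQ bot_le hQne
    (fun y hy => hQn.conj_mem y hy _) (fun y hy => hQn.conj_mem y hy _)
    (fun y hy => hcent _ (hexp g g.2) y hy) (fun y hy => hcent _ (hexp h h.2) y hy)
    ?_ ?_
  · intro y hy
    obtain ⟨c, hc⟩ : ∃ c : G, c = (g : G) * h * (g : G)⁻¹ * (h : G)⁻¹ := ⟨_, rfl⟩
    have hcC : c ∈ Subgroup.centralizer (Q : Set G) := hc ▸ hcomm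
    have e1 : (g : G) * h = c * (h * g) := by rw [hc]; group
    have hy' : (h : G) * g * y * ((h : G) * g)⁻¹ ∈ Q := hQn.conj_mem y hy _
    have e2 := hcent c hcC _ hy'
    calc (g : G) * h * y * ((g : G) * h)⁻¹
        = c * ((h : G) * g * y * ((h : G) * g)⁻¹) * c⁻¹ := by rw [e1]; group
      _ = (h : G) * g * y * ((h : G) * g)⁻¹ := by rw [e2]; group
  · intro i k hik y hy hcomm'
    have hgP : (g : G) ^ i * (h : G) ^ k ∈ P := P.mul_mem (P.pow_mem g.2 i) (P.pow_mem h.2 k)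
    have hnC : (g : G) ^ i * (h : G) ^ k ∉ Subgroup.centralizer (Q : Set G) :=
      fun hin => hik (hind i k hin)
    exact Subgroup.mem_bot.mpr (hfix _ hgP hnC y hy hcomm')

end Cfsg.Agent.Lib.Helper88.CS3
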