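import Mathlib
import Cfsg.Agent.Lib.Helper79.CS3.EndDefs
import Cfsg.Agent.Lib.Helper88.CS3.EndAux

/-!
# CS3 (S4284), part END, package [I6]: `C_G(Q)` is abelian of index `m`, and `|G : Q|` is a
power of `m` (CASE I, `m = p`)
-/

set_option autoImplicit false

namespace Cfsg.Agent.Lib.Helper88.CS3

open Cfsg.Agent.Lib.Helper79.CS3 Cfsg.Agent.Lib.Helper81.CS3

universe u

/-- **[I6]** from [I1] -/
theorem pkgI6_of (hI1 : PkgI1.{u}) : PkgI6.{u} := by
  intro G _ _ m n Q P p hS hI hmp
  have hQn : Q.Normal := hS.s0.qn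
  have hCn : (Subgroup.centralizer (Q : Set G)).Normal := inferInstance
  have hpF : Fact p.Prime := ⟨hS.pp⟩
  obtain ⟨hrel, hab, -, -⟩ := hI1 m n Q P p hS hI
  have hQC : Q ≤ Subgroup.centralizer (Q : Set G) := fun a ha =>
    Subgroup.mem_centralizer_iff.mpr (fun b hb => hS.s0.qc b hb a ha)
  refine ⟨⟨?_, ?_⟩, ?_⟩
  · have h1 : (Subgroup.centralizer (Q : Set G)).relIndex
        (P ⊔ Subgroup.centralizer (Q : Set G)) =
        (Subgroup.centralizer (Q : Set G)).relIndex P := Subgroup.relIndex_sup_right _ _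
    have h2 : P ⊔ Subgroup.centralizer (Q : Set G) = ⊤ := by
      rw [eq_top_iff, ← hS.s0.sup]
      exact sup_le (hQC.trans le_sup_right) le_sup_left
    rw [h2, Subgroup.relIndex_top_right, hrel] at h1
    exact h1
  · refine ⟨⟨fun x y => Subtype.ext ?_⟩⟩
    obtain ⟨q, hq, l, hl, hx⟩ := end_exists_mul hQn hS.s0.sup (x : G)
    obtain ⟨q', hq', l', hl', hy⟩ := end_exists_mul hQn hS.s0.sup (y : G)
    have hlC : l ∈ Subgroup.centralizer (Q : Set G) := by
      have h1 : l = q⁻¹ * (x : G) := by rw [hx]; group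
      rw [h1]
      exact Subgroup.mul_mem _ (Subgroup.inv_mem _ (hQC hq)) x.2
    have hl'C : l' ∈ Subgroup.centralizer (Q : Set G) := by
      have h1 : l' = q'⁻¹ * (y : G) := by rw [hy]; group
      rw [h1]
      exact Subgroup.mul_mem _ (Subgroup.inv_mem _ (hQC hq')) y.2
    have e1 : l * q' = q' * l := (Subgroup.mem_centralizer_iff.mp hlC q' hq').symm
    have e2 : l' * q = q * l' := (Subgroup.mem_centralizer_iff.mp hl'C q hq).symm
    have e3 : q * q' = q' * q := hS.s0.qc q hq q' hq'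
    have e4 : l * l' = l' * l := hab l hl hlC l' hl' hl'C
    show (x : G) * (y : G) = (y : G) * (x : G)
    rw [hx, hy]
    calc q * l * (q' * l') = q * (l * q') * l' := by group
      _ = q * (q' * l) * l' := by rw [e1]
      _ = (q * q') * (l * l') := by group
      _ = (q' * q) * (l' * l) := by rw [e3, e4]
      _ = q' * (q * l') * l := by group
      _ = q' * (l' * q) * l := by rw [e2]
      _ = q' * l' * (q * l) := by group
  · obtain ⟨k, hk⟩ := IsPGroup.iff_card.mp hS.pg
    exact ⟨k, by rw [← end_card_P hQn hS.s0.inf hS.s0.sup, hk, hmp]⟩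

end Cfsg.Agent.Lib.Helper88.CS3
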